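import Cfsg.Agent.Lib.Helper4.McLM.Tabs
set_option autoImplicit false
set_option maxRecDepth 1000000
namespace Cfsg.Agent.Lib.Helper4.McLM
theorem c_fs1_4 : mclTabs.chkFS 1 16000 4000 = true := by decide +kernel
theorem c_fs1_5 : mclTabs.chkFS 1 20000 2275 = true := by decide +kernel
end Cfsg.Agent.Lib.Helper4.McLM
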