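import Cfsg.Agent.Lib.Helper4.McLM.Tabs
set_option autoImplicit false
set_option maxRecDepth 1000000
namespace Cfsg.Agent.Lib.Helper4.McLM
theorem c_inv0 : mclTabs.chkInv 0 0 22275 = true := by decide +kernel
theorem c_inv1 : mclTabs.chkInv 1 0 22275 = true := by decide +kernel
theorem c_mk : mclTabs.chkMK 0 22274 = true := by decide +kernel
theorem c_mkb : Nat.blt (mclTabs.MK 22274) (Nat.pow 2 275) = true := by decide +kernel
theorem c_key : mclTabs.chkKey 0 22274 = true := by decide +kernel
theorem c_conn : mclTabs.chkConn 0 22275 = true := by decide +kernel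
end Cfsg.Agent.Lib.Helper4.McLM
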