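import Cfsg.Agent.Lib.Helper4.McLM.Tabs
set_option autoImplicit false
set_option maxRecDepth 1000000
namespace Cfsg.Agent.Lib.Helper4.McLM
theorem c_p3_0_4 : mclTabs.chkP3 0 10000 2500 = true := by decide +kernel
theorem c_p3_0_5 : mclTabs.chkP3 0 12500 2500 = true := by decide +kernel
end Cfsg.Agent.Lib.Helper4.McLM
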